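import Groth.Agent.ASp.GeomRedEt
import Groth.Agent.FinCondEasy.Components
import Groth.Agent.CompTopLib.Basic
import Groth.Agent.GenIrredLib.SectionBC
import Groth.Agent.RegLocal.Basic
import Groth.Agent.RegLocal.Completion

/-!
# Connected components of smooth fibres are irreducible
-/

set_option autoImplicit false
set_option backward.isDefEq.respectTransparency false
set_option linter.style.haveILetI false

universe u

open CategoryTheory CategoryTheory.Limits AlgebraicGeometry Topology

namespace Groth.Agent.SmoothSecLib

/-- Connected components of a locally Noetherian scheme whose local rings are domains are irreducible. -/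
theorem isIrreducible_connectedComponent_of_domain {Z : Scheme.{u}} [IsLocallyNoetherian Z]
    (h : ∀ z : Z, IsDomain (Z.presheaf.stalk z)) (z : Z) : IsIrreducible (connectedComponent z) := by
  have hd : (irreducibleComponents (Z : Type u)).PairwiseDisjoint id :=
    (FinCondEasy.pairwiseDisjoint_iff Z).2 fun x => by
      haveI := h x
      rw [nilradical_eq_zero]
      exact Ideal.isPrime_bot
  have hopen : IsOpen (irreducibleComponent z) := by
    refine CompTopLib.isOpen_of_disjoint (fun A hA B hB hne => hd hA hB hne) (fun x => ?_)
      (irreducibleComponent_mem_irreducibleComponents z)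
    obtain ⟨U, hU, hxU, -⟩ := exists_isAffineOpen_mem_and_subset (X := Z) (x := x) (U := ⊤) trivial
    haveI : IsAffine (U : Scheme.{u}) := hU
    haveI : IsNoetherian (U : Scheme.{u}) := {}
    exact ⟨U, U.2, hxU, CompTopLib.finite_meeting_of_finite_subspace U.2
      (TopologicalSpace.NoetherianSpace.finite_irreducibleComponents (α := ↥(U : Scheme.{u})))⟩
  have heq : connectedComponent z = irreducibleComponent z :=
    Set.Subset.antisymm
      (IsClopen.connectedComponent_subset (⟨isClosed_irreducibleComponent, hopen⟩ : IsClopen _) mem_irreducibleComponent)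
      (isIrreducible_irreducibleComponent.isConnected.subset_connectedComponent mem_irreducibleComponent)
  rw [heq]
  exact isIrreducible_irreducibleComponent

/-- Components of fibres of a smooth morphism are irreducible. -/
theorem isIrreducible_componentIn_fibre {X S : Scheme.{u}} (f : X ⟶ S) [Smooth f] (x : X) :
    IsIrreducible (connectedComponentIn (f ⁻¹' {f x}) x) := by
  let s := f x
  let p := f.fiberToSpecResidueField s
  haveI : Smooth p := MorphismProperty.pullback_snd (P := @Smooth) _ _ ‹_›
  haveI : IsLocallyNoetherian (f.fiber s) := LocallyOfFiniteType.isLocallyNoetherian p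
  have hdom : ∀ z : f.fiber s, IsDomain ((f.fiber s).presheaf.stalk z) := fun z => by
    haveI := ASp.isRegularLocalRing_stalk_of_smooth_field (k := S.residueField s) p z
    exact RegLocal.isDomain _
  obtain ⟨x', hx'⟩ : x ∈ Set.range (f.fiberι s) := by rw [f.range_fiberι]; rfl
  show IsIrreducible (connectedComponentIn (f ⁻¹' {s}) x)
  rw [← f.range_fiberι s, ← hx', GenIrredLib.connectedComponentIn_range (f.fiberι s).isEmbedding]
  exact (isIrreducible_connectedComponent_of_domain hdom x').image _ (f.fiberι s).continuous.continuousOn

/-- An open subset of a component of a smooth fibre is preconnected. -/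
theorem isPreconnected_componentIn_inter {X S : Scheme.{u}} (f : X ⟶ S) [Smooth f] (x : X) {O : Set X}
    (hO : IsOpen O) : _root_.IsPreconnected (connectedComponentIn (f ⁻¹' {f x}) x ∩ O) := by
  refine IsPreirreducible.isPreconnected fun u v hu hv ⟨a, ⟨haC, haO⟩, hau⟩ ⟨b, ⟨hbC, hbO⟩, hbv⟩ => ?_
  obtain ⟨c, hcC, ⟨hcO, hcu⟩, -, hcv⟩ := (isIrreducible_componentIn_fibre f x).2 (O ∩ u) (O ∩ v)
    (hO.inter hu) (hO.inter hv) ⟨a, haC, haO, hau⟩ ⟨b, hbC, hbO, hbv⟩
  exact ⟨c, ⟨hcC, hcO⟩, hcu, hcv⟩

end Groth.Agent.SmoothSecLib
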