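import Groth.Agent.SmoothSecLib.ClopenImage
import Groth.Agent.GenIrredLib.SectionFlat
import Groth.Agent.AVLib.GeomInt
import Groth.Agent.ArtGrpLib.Component

/-!
# Fibre components meeting the image of a universally open family of points
-/

set_option autoImplicit false
set_option backward.isDefEq.respectTransparency false
set_option linter.style.haveILetI false

universe u

open CategoryTheory CategoryTheory.Limits AlgebraicGeometry Topology

namespace Groth.Agent.SmoothSecLib

variable {S S' X : Scheme.{u}} (f : X ⟶ S) [Smooth f] [QuasiCompact f] [QuasiSeparated f] (g : S' ⟶ S)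
  [UniversallyOpen g] (e : S' ⟶ X) (he : e ≫ f = g)

include he in
/-- The fibre components meeting the image of a universally open family of points form an open set. -/
theorem exists_open_components_meeting :
    ∃ U : X.Opens, ∀ s : S, (U : Set ↥X) ∩ f.base ⁻¹' {s} =
      ⋃ x ∈ Set.range e.base ∩ f.base ⁻¹' {s}, connectedComponentIn (f.base ⁻¹' {s}) x := by
  let f' := pullback.snd f g
  let m := pullback.fst f g
  let σ : S' ⟶ pullback f g := pullback.lift e (𝟙 _) (by rw [he, Category.id_comp])
  have hσ : σ ≫ f' = 𝟙 _ := pullback.lift_snd _ _ _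
  have hσm : ∀ t, m (σ t) = e t := fun t => by
    rw [← Scheme.Hom.comp_apply, show σ ≫ m = e from pullback.lift_fst _ _ _]
  have hfm : ∀ z, f (m z) = g (f' z) := fun z => by
    rw [← Scheme.Hom.comp_apply, pullback.condition, Scheme.Hom.comp_apply]
  have hfe : ∀ t, f (e t) = g t := fun t => by rw [← Scheme.Hom.comp_apply, he]
  haveI : Smooth f' := MorphismProperty.pullback_snd (P := @Smooth) _ _ ‹_›
  have hW : IsOpen (MoreMor.sectionComponents f' σ) :=
    GenIrredLib.isOpen_sectionComponents_of_flat f' σ hσ fun y => by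
      haveI : Smooth (f'.fiberToSpecResidueField y) := MorphismProperty.pullback_snd (P := @Smooth) _ _ ‹_›
      exact AVLib.geometricallyReduced_of_smooth _
  refine ⟨⟨m '' MoreMor.sectionComponents f' σ, m.isOpenMap _ hW⟩, fun s => Set.Subset.antisymm ?_ ?_⟩
  · rintro _ ⟨⟨w, hw, rfl⟩, hs⟩
    have hs' : g (f' w) = s := (hfm w).symm.trans hs
    refine Set.mem_iUnion₂.2 ⟨e (f' w), ⟨⟨_, rfl⟩, (hfe _).trans hs'⟩, ?_⟩
    refine (isPreconnected_connectedComponentIn.image m m.continuous.continuousOn).subset_connectedComponentIn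
      ⟨σ (f' w), mem_connectedComponentIn (show f' (σ (f' w)) = f' w by rw [← Scheme.Hom.comp_apply, hσ]; rfl),
        hσm _⟩ ?_ ⟨w, hw, rfl⟩
    rintro _ ⟨b, hb, rfl⟩
    show f (m b) = s
    rw [hfm, show f' b = f' w from connectedComponentIn_subset (f' ⁻¹' {f' w}) _ hb, hs']
  · intro y hy
    obtain ⟨x, ⟨⟨s', rfl⟩, hxs⟩, hyx⟩ := Set.mem_iUnion₂.1 hy
    have hys : f y = s := connectedComponentIn_subset (f ⁻¹' {s}) _ hyx
    have hgs : g s' = s := (hfe s').symm.trans hxs
    subst hgs
    refine ⟨?_, hys⟩
    have H := isPullback_fiberToSpecResidueField_of_isPullback (IsPullback.of_hasPullback f g) s'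
    let μ := pullback.map f' (S'.fromSpecResidueField s') f (S.fromSpecResidueField (g s')) m
      (Spec.map (g.residueFieldMap s')) g pullback.condition.symm (by simp)
    have hμ : ∀ z, f.fiberι (g s') (μ z) = m (f'.fiberι s' z) := fun z =>
      congrArg (fun t : f'.fiber s' ⟶ X => t z) (pullback.lift_fst _ _ _ : μ ≫ f.fiberι (g s') = f'.fiberι s' ≫ m)
    obtain ⟨z, hz⟩ : σ s' ∈ Set.range (f'.fiberι s') := by
      rw [f'.range_fiberι]
      show f' (σ s') = s'
      rw [← Scheme.Hom.comp_apply, hσ]; rfl
    haveI : LocallyOfFiniteType (f'.fiberToSpecResidueField s') :=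
      MorphismProperty.pullback_snd (P := @LocallyOfFiniteType) _ _ inferInstance
    haveI : IsLocallyNoetherian (f'.fiber s') :=
      LocallyOfFiniteType.isLocallyNoetherian (f'.fiberToSpecResidueField s')
    have hD : IsClopen (connectedComponent z) :=
      ⟨isClosed_connectedComponent, ArtGrpLib.isOpen_connectedComponent z⟩
    have hμD : IsClopen (μ '' connectedComponent z) :=
      isClopen_image_of_isPullback (k := S.residueField (g s')) (K := S'.residueField s') H hD
    have hcomp : connectedComponentIn (f ⁻¹' {g s'}) (e s') =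
        f.fiberι (g s') '' connectedComponent (μ z) := by
      have he' : f.fiberι (g s') (μ z) = e s' := by rw [hμ, hz, hσm]
      rw [← f.range_fiberι (g s'), ← he']
      exact GenIrredLib.connectedComponentIn_range (f.fiberι (g s')).isEmbedding _
    have hyx' : y ∈ f.fiberι (g s') '' connectedComponent (μ z) := hcomp ▸ hyx
    obtain ⟨v, hv, rfl⟩ := hyx'
    obtain ⟨d, hd, rfl⟩ := hμD.connectedComponent_subset ⟨z, mem_connectedComponent, rfl⟩ hv
    refine ⟨f'.fiberι s' d, ?_, (hμ d).symm⟩
    have h1 : f'.fiberι s' d ∈ connectedComponentIn (f' ⁻¹' {s'}) (σ s') := by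
      rw [← f'.range_fiberι s', ← hz, GenIrredLib.connectedComponentIn_range (f'.fiberι s').isEmbedding]
      exact ⟨d, hd, rfl⟩
    exact (GenIrredLib.mem_sectionComponents_of_mem f' σ h1).1

end Groth.Agent.SmoothSecLib
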