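import Groth.Agent.GenIrredLib.SectionFlat
import Groth.Agent.SteinConn.Components
import Groth.Agent.AVLib.GeomInt

/-!
# Section components of smooth morphisms are open

No quasi-compactness is assumed: a point of a section component is joined to the section inside a
quasi-compact open, over which the flat finitely presented case applies.
-/

set_option autoImplicit false
set_option backward.isDefEq.respectTransparency false
set_option linter.style.haveILetI false

universe u

open CategoryTheory CategoryTheory.Limits AlgebraicGeometry Topology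

namespace Groth.Agent.SmoothSecLib

variable {S X : Scheme.{u}} (f : X ⟶ S) (e : S ⟶ X) (he : e ≫ f = 𝟙 S)

include he in
/-- Section components computed over an open piece lie in the section components. -/
theorem image_sectionComponents_subset {S₀ U : Scheme.{u}} (f₀ : U ⟶ S₀) (e₀ : S₀ ⟶ U) (he₀ : e₀ ≫ f₀ = 𝟙 S₀)
    (i : U ⟶ X) (j : S₀ ⟶ S) (hij : f₀ ≫ j = i ≫ f) (hej : e₀ ≫ i = j ≫ e) :
    i '' MoreMor.sectionComponents f₀ e₀ ⊆ MoreMor.sectionComponents f e := by
  rintro _ ⟨a, ha, rfl⟩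
  have h0 : ∀ b, f (i b) = j (f₀ b) := fun b => by
    rw [← Scheme.Hom.comp_apply, ← hij, Scheme.Hom.comp_apply]
  show i a ∈ connectedComponentIn (f ⁻¹' {f (i a)}) (e (f (i a)))
  refine (isPreconnected_connectedComponentIn.image i i.continuous.continuousOn).subset_connectedComponentIn
    ⟨e₀ (f₀ a), mem_connectedComponentIn (SteinConn.apply_section f₀ e₀ he₀ (f₀ a)), ?_⟩ ?_ ⟨a, ha, rfl⟩
  · rw [← Scheme.Hom.comp_apply, hej, Scheme.Hom.comp_apply, h0]
  · rintro _ ⟨b, hb, rfl⟩
    show f (i b) = f (i a)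
    rw [h0, h0, show f₀ b = f₀ a from connectedComponentIn_subset (f₀ ⁻¹' {f₀ a}) _ hb]

include he in
/-- A point of a section component of a locally finite type morphism is joined to the section inside a
quasi-compact open of the source. -/
theorem exists_compactOpen_connected_fibre [LocallyOfFiniteType f] {x : X}
    (hx : x ∈ MoreMor.sectionComponents f e) {V : S.Opens} (hV : f x ∈ V) :
    ∃ U : X.Opens, IsCompact (U : Set X) ∧ U ≤ f ⁻¹ᵁ V ∧ e (f x) ∈ U ∧
      x ∈ connectedComponentIn ((U : Set X) ∩ f ⁻¹' {f x}) (e (f x)) := by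
  classical
  let s := f x
  let p := f.fiberToSpecResidueField s
  let pt : Spec (S.residueField s) ⟶ f.fiber s :=
    pullback.lift (S.fromSpecResidueField s ≫ e) (𝟙 _) (by
      rw [Category.assoc, he, Category.comp_id, Category.id_comp])
  have hpt : pt ≫ p = 𝟙 _ := pullback.lift_snd _ _ _
  haveI : Subsingleton ↥(Spec (S.residueField s)) := inferInstanceAs (Subsingleton (PrimeSpectrum _))
  let z : Spec (S.residueField s) := IsLocalRing.closedPoint (S.residueField s)
  have hptz : f.fiberι s (pt z) = e s := by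
    rw [← Scheme.Hom.comp_apply, show pt ≫ f.fiberι s = S.fromSpecResidueField s ≫ e from pullback.lift_fst _ _ _,
      Scheme.Hom.comp_apply, Scheme.fromSpecResidueField_apply]
  obtain ⟨x', hx'⟩ : x ∈ Set.range (f.fiberι s) := by rw [f.range_fiberι]; rfl
  have hemb : IsEmbedding (f.fiberι s) := (f.fiberι s).isEmbedding
  have hconn : connectedComponentIn (f ⁻¹' {s}) (e s) = f.fiberι s '' connectedComponent (pt z) := by
    rw [← f.range_fiberι s, ← hptz]
    exact GenIrredLib.connectedComponentIn_range hemb _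
  have hxC : x' ∈ connectedComponentIn (p ⁻¹' {z}) (pt z) := by
    have h1 : p ⁻¹' {z} = Set.univ := Set.eq_univ_of_forall fun w => Subsingleton.elim _ _
    rw [h1, connectedComponentIn_univ]
    have h2 : x ∈ f.fiberι s '' connectedComponent (pt z) := hconn ▸ hx
    obtain ⟨w, hw, hwx⟩ := h2
    exact (hemb.injective (hwx.trans hx'.symm)) ▸ hw
  haveI : LocallyOfFiniteType p := MorphismProperty.pullback_snd (P := @LocallyOfFiniteType) _ _ ‹_›
  haveI : IsLocallyNoetherian (f.fiber s) := LocallyOfFiniteType.isLocallyNoetherian p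
  obtain ⟨U₁, hU₁, hzU₁, hxU₁⟩ := GenIrredLib.exists_compactOpen_connected p pt hpt z hxC
  have hK : IsCompact (f.fiberι s '' (U₁ : Set (f.fiber s))) := hU₁.image (f.fiberι s).continuous
  have hKs : ∀ a ∈ f.fiberι s '' (U₁ : Set (f.fiber s)), f a = s := by
    rintro _ ⟨w, -, rfl⟩
    have : f.fiberι s w ∈ Set.range (f.fiberι s) := ⟨w, rfl⟩
    rwa [f.range_fiberι] at this
  choose A hA haA hAV using fun a : f.fiberι s '' (U₁ : Set (f.fiber s)) =>
    exists_isAffineOpen_mem_and_subset (X := X) (x := a.1) (U := f ⁻¹ᵁ V)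
      (show f a.1 ∈ V from (hKs a.1 a.2).symm ▸ hV)
  obtain ⟨t, ht⟩ := hK.elim_finite_subcover (fun a => (A a : Set X)) (fun a => (A a).2)
    (fun a ha => Set.mem_iUnion.2 ⟨⟨a, ha⟩, haA ⟨a, ha⟩⟩)
  let U : X.Opens := ⟨⋃ a ∈ t, (A a : Set X), isOpen_biUnion fun a _ => (A a).2⟩
  refine ⟨U, t.isCompact_biUnion fun a _ => (hA a).isCompact, ?_, ?_, ?_⟩
  · intro a ha
    obtain ⟨b, -, hb⟩ := Set.mem_iUnion₂.1 ha
    exact hAV b hb
  · exact ht ⟨pt z, hzU₁, hptz⟩
  · have h1 := (isPreconnected_connectedComponentIn (F := (U₁ : Set (f.fiber s)) ∩ p ⁻¹' {z}) (x := pt z)).image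
      (f.fiberι s) (f.fiberι s).continuous.continuousOn
    refine h1.subset_connectedComponentIn
      ⟨pt z, mem_connectedComponentIn ⟨hzU₁, Subsingleton.elim _ _⟩, hptz⟩ ?_ ⟨x', hxU₁, hx'⟩
    rintro _ ⟨w, hw, rfl⟩
    have hw1 := (connectedComponentIn_subset _ _ hw).1
    exact ⟨ht ⟨w, hw1, rfl⟩, hKs _ ⟨w, hw1, rfl⟩⟩

include he in
/-- Section components of a smooth morphism with quasi-separated source are open. -/
theorem isOpen_sectionComponents [QuasiSeparatedSpace X] [Smooth f] :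
    IsOpen (MoreMor.sectionComponents f e) := by
  refine isOpen_iff_mem_nhds.2 fun x hx => mem_interior_iff_mem_nhds.1 ?_
  obtain ⟨_, ⟨V : S.Opens, hV, rfl⟩, hxV, -⟩ :=
    S.isBasis_affineOpens.exists_subset_of_mem_open (Set.mem_univ (f x)) isOpen_univ
  obtain ⟨U, hUc, hUV, heU, hxU⟩ := exists_compactOpen_connected_fibre f e he hx hxV
  obtain ⟨S₀, hS₀, hsS₀, hS₀le⟩ :=
    exists_isAffineOpen_mem_and_subset (X := S) (x := f x) (U := V ⊓ e ⁻¹ᵁ U) ⟨hxV, heU⟩
  let U' : X.Opens := U ⊓ f ⁻¹ᵁ S₀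
  have hle : U' ≤ f ⁻¹ᵁ S₀ := inf_le_right
  let f₀ := f.resLE S₀ U' hle
  haveI : IsAffine (S₀ : Scheme) := hS₀
  haveI : IsAffine (V : Scheme) := hV
  haveI : CompactSpace ↥(U : Scheme) := isCompact_iff_compactSpace.1 hUc
  haveI : QuasiSeparatedSpace ↥(U : Scheme) := U.2.isOpenEmbedding_subtypeVal.quasiSeparatedSpace
  have hU'c : IsCompact (U' : Set X) := by
    let g := f.resLE V U hUV
    haveI : QuasiCompact g := quasiCompact_of_compactSpace g
    have hS₀V : S₀ ≤ V := hS₀le.trans inf_le_left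
    have h1 : IsCompact (g ⁻¹' (V.ι ⁻¹' (S₀ : Set S))) := by
      refine g.isSpectralMap.isCompact_preimage_of_isOpen (S₀.2.preimage V.ι.continuous) ?_
      refine V.ι.isOpenEmbedding.isInducing.isCompact_iff.2 ?_
      rw [Set.image_preimage_eq_inter_range, Scheme.Opens.range_ι,
        Set.inter_eq_left.2 (SetLike.coe_subset_coe.2 hS₀V)]
      exact hS₀.isCompact
    have h2 := h1.image U.ι.continuous
    convert h2 using 1
    ext a
    constructor
    · rintro ⟨haU, haS⟩
      refine ⟨⟨a, haU⟩, ?_, rfl⟩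
      show V.ι (g ⟨a, haU⟩) ∈ S₀
      rwa [← Scheme.Hom.comp_apply, Scheme.Hom.resLE_comp_ι, Scheme.Hom.comp_apply]
    · rintro ⟨b, hb, rfl⟩
      refine ⟨b.2, ?_⟩
      have hb' : V.ι (g b) ∈ S₀ := hb
      rwa [← Scheme.Hom.comp_apply, Scheme.Hom.resLE_comp_ι, Scheme.Hom.comp_apply] at hb'
  haveI : CompactSpace ↥(U' : Scheme) := isCompact_iff_compactSpace.1 hU'c
  haveI : QuasiSeparatedSpace ↥(U' : Scheme) := U'.2.isOpenEmbedding_subtypeVal.quasiSeparatedSpace
  haveI : QuasiCompact f₀ := quasiCompact_of_compactSpace f₀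
  haveI : QuasiSeparated f₀ := inferInstance
  haveI : Smooth f₀ := by
    haveI : Smooth (f₀ ≫ S₀.ι) := by
      rw [Scheme.Hom.resLE_comp_ι]
      infer_instance
    exact MorphismProperty.of_postcomp (W := @Smooth) (W' := @IsOpenImmersion) _ S₀.ι inferInstance ‹_›
  have hfs : ∀ t, f (e t) = t := SteinConn.apply_section f e he
  have hsle : S₀ ≤ e ⁻¹ᵁ U' := fun t ht => ⟨(hS₀le ht).2, show f (e t) ∈ S₀ from (hfs t).symm ▸ ht⟩
  let e₀ := e.resLE U' S₀ hsle
  have he₀ : e₀ ≫ f₀ = 𝟙 _ := by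
    rw [← cancel_mono S₀.ι, Category.assoc, Scheme.Hom.resLE_comp_ι, ← Category.assoc, Scheme.Hom.resLE_comp_ι,
      Category.assoc, he, Category.comp_id, Category.id_comp]
  have hopen : IsOpen (MoreMor.sectionComponents f₀ e₀) :=
    GenIrredLib.isOpen_sectionComponents_of_flat f₀ e₀ he₀ fun y => by
      haveI : Smooth (f₀.fiberToSpecResidueField y) := MorphismProperty.pullback_snd (P := @Smooth) _ _ ‹_›
      exact AVLib.geometricallyReduced_of_smooth _
  refine mem_interior.2 ⟨U'.ι '' MoreMor.sectionComponents f₀ e₀,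
    image_sectionComponents_subset f e he f₀ e₀ he₀ U'.ι S₀.ι (Scheme.Hom.resLE_comp_ι _ _)
      (Scheme.Hom.resLE_comp_ι _ _), U'.ι.isOpenEmbedding.isOpenMap _ hopen, ?_⟩
  have hxU0 := connectedComponentIn_subset _ _ hxU
  have hxU' : x ∈ U' := ⟨hxU0.1, hsS₀⟩
  refine ⟨⟨x, hxU'⟩, ?_, rfl⟩
  let x₀ : (U' : Scheme) := ⟨x, hxU'⟩
  have hf₀x : S₀.ι (f₀ x₀) = f x := by
    rw [← Scheme.Hom.comp_apply, Scheme.Hom.resLE_comp_ι]; rfl
  have he₀x : U'.ι (e₀ (f₀ x₀)) = e (f x) := by
    rw [← Scheme.Hom.comp_apply, Scheme.Hom.resLE_comp_ι, Scheme.Hom.comp_apply, hf₀x]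
  show x₀ ∈ connectedComponentIn (f₀ ⁻¹' {f₀ x₀}) (e₀ (f₀ x₀))
  let C := connectedComponentIn ((U : Set X) ∩ f ⁻¹' {f x}) (e (f x))
  have hC : C ⊆ (U' : Set X) := fun a ha => by
    have ha' := connectedComponentIn_subset _ _ ha
    exact ⟨ha'.1, show f a ∈ S₀ from (show f a = f x from ha'.2).symm ▸ hsS₀⟩
  have hpre : _root_.IsPreconnected (U'.ι ⁻¹' C) := by
    refine U'.ι.isOpenEmbedding.isInducing.isPreconnected_image.1 ?_
    rw [Set.image_preimage_eq_inter_range, Scheme.Opens.range_ι, Set.inter_eq_left.2 hC]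
    exact isPreconnected_connectedComponentIn
  refine hpre.subset_connectedComponentIn ?_ ?_ hxU
  · show U'.ι (e₀ (f₀ x₀)) ∈ C
    rw [he₀x]
    exact mem_connectedComponentIn ⟨heU, hfs _⟩
  · intro b hb
    have hb' := (connectedComponentIn_subset _ _ (show U'.ι b ∈ C from hb)).2
    refine S₀.ι.isOpenEmbedding.injective ?_
    rw [hf₀x, ← Scheme.Hom.comp_apply, Scheme.Hom.resLE_comp_ι, Scheme.Hom.comp_apply]
    exact hb'

end Groth.Agent.SmoothSecLib
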