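import Groth.Agent.SmoothSecLib.GeomConnSpread
import Groth.Agent.EtaleSplit.Nbhd
import Groth.Agent.ASp.UnramDiag

/-!
# Geometrically connected opens after an elementary étale localization
-/

set_option autoImplicit false
set_option backward.isDefEq.respectTransparency false
set_option backward.isDefEq.respectTransparency.types false
set_option linter.style.haveILetI false
set_option maxHeartbeats 1000000

universe u

open CategoryTheory CategoryTheory.Limits AlgebraicGeometry Topology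

namespace Groth.Agent.SmoothSecLib

theorem residueFieldMap_bijective_comp {U V S : Scheme.{u}} (j : V ⟶ U) [IsOpenImmersion j] (g : U ⟶ S) (v : V)
    (h : Function.Bijective (g.residueFieldMap (j v))) : Function.Bijective ((j ≫ g).residueFieldMap v) := by
  haveI : IsIso (g.residueFieldMap (j v)) := (ConcreteCategory.isIso_iff_bijective _).mpr h
  rw [show (j ≫ g).residueFieldMap v = g.residueFieldMap (j v) ≫ j.residueFieldMap v from
    Scheme.residueFieldMap_comp j g v]
  exact ConcreteCategory.bijective_of_isIso _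

/-- A geometrically connected fibre spreads to a geometrically connected open over an elementary étale
neighbourhood. -/
theorem exists_etaleNbhd_geomConn {W S : Scheme.{u}} [IsAffine S] (h : W ⟶ S) [Flat h]
    [LocallyOfFinitePresentation h] [QuasiCompact h] [QuasiSeparated h] [GeometricallyReduced h] (s : S)
    (hT : GeometricallyConnected (h.fiberToSpecResidueField s)) :
    ∃ (S' : Scheme.{u}) (g : S' ⟶ S) (s' : S'), IsAffine S' ∧ Hens2.IsEtaleNbhd g s' s ∧
      ∃ V : (pullback h g).Opens, IsCompact (V : Set ↑(pullback h g)) ∧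
        GeometricallyConnected (V.ι ≫ pullback.snd h g) ∧ pullback.snd h g ⁻¹' {s'} ⊆ (V : Set ↑(pullback h g)) := by
  haveI := hT
  let p := h.fiberToSpecResidueField s
  haveI : LocallyOfFinitePresentation p := MorphismProperty.pullback_snd (P := @LocallyOfFinitePresentation) _ _ ‹_›
  haveI : Subsingleton ↥(Spec (S.residueField s)) := inferInstanceAs (Subsingleton (PrimeSpectrum _))
  haveI : Nonempty ↥(Spec (S.residueField s)) := inferInstanceAs (Nonempty (PrimeSpectrum _))
  haveI : ConnectedSpace ↥(h.fiber s) := GeometricallyConnected.connectedSpace_of_subsingleton p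
  obtain ⟨c₁, -, hc₁⟩ := exists_mem_smoothLocus (k := S.residueField s) p ⊤ ⟨Classical.arbitrary _, trivial⟩
  let O : W.Opens := h.smoothLocus
  have hcO : h.fiberι s c₁ ∈ O :=
    (FlatLocus.mem_smoothLocus_iff_fibre h s c₁).2 ⟨Flat.stalkMap h _, hc₁⟩
  haveI : Smooth (O.ι ≫ h) := by
    rw [← Scheme.Hom.smoothLocus_eq_top_iff, ← Scheme.Hom.preimage_smoothLocus_eq]
    exact eq_top_iff.2 fun u _ => u.2
  have hsc : h (h.fiberι s c₁) = s := (Set.ext_iff.1 (h.range_fiberι s) _).1 ⟨c₁, rfl⟩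
  obtain ⟨c', hc's, hc'sep⟩ := SmoothSliceLib.exists_separable_point (O.ι ≫ h) s ⟨⟨_, hcO⟩, hsc⟩
  obtain ⟨Z, i, z, -, hZet, hzc, -⟩ := SmoothSliceLib.exists_etale_slice_scheme (O.ι ≫ h) c' hc'sep
  haveI := hZet
  let q := i ≫ O.ι ≫ h
  have hqz : q z = s := by
    show (i ≫ O.ι ≫ h) z = s
    rw [Scheme.Hom.comp_apply, hzc]
    exact hc's
  haveI : LocallyQuasiFinite q := ASp.locallyQuasiFinite_of_etale_self q
  obtain ⟨U, g, u, hnb, Vs, vs, hV⟩ :=
    EtaleSplit.exists_nbhd_finite_parts (ι := Unit) q s (fun _ => z) (fun _ => hqz) (fun _ => q.quasiFiniteAt z)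
  obtain ⟨hvV, hfin, hvu, -, -, -⟩ := hV ()
  haveI := hfin
  haveI : Etale g := hnb.etale
  obtain ⟨S₁, hS₁, huS₁, -⟩ := exists_isAffineOpen_mem_and_subset (X := U) (x := u) (U := ⊤) trivial
  haveI : IsAffine S₁.toScheme := hS₁
  let g₁ := S₁.ι ≫ g
  let f := pullback.snd h g₁
  haveI : Flat f := MorphismProperty.pullback_snd (P := @Flat) _ _ ‹_›
  haveI : LocallyOfFinitePresentation f := MorphismProperty.pullback_snd (P := @LocallyOfFinitePresentation) _ _ ‹_›
  let q₀ := (Vs ()).ι ≫ pullback.snd q g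
  haveI : Etale q₀ := by
    haveI : Etale (pullback.snd q g) := MorphismProperty.pullback_snd (P := @Etale) _ _ hZet
    infer_instance
  let q₂ := q₀ ∣_ S₁
  haveI : IsFinite q₀ := hfin
  let σ : (q₀ ⁻¹ᵁ S₁).toScheme ⟶ pullback h g₁ :=
    pullback.lift ((q₀ ⁻¹ᵁ S₁).ι ≫ (Vs ()).ι ≫ pullback.fst q g ≫ i ≫ O.ι) q₂ (by
      simp only [Category.assoc]
      show (q₀ ⁻¹ᵁ S₁).ι ≫ (Vs ()).ι ≫ pullback.fst q g ≫ q = q₂ ≫ S₁.ι ≫ g
      rw [pullback.condition, show q₂ ≫ S₁.ι ≫ g = (q₀ ⁻¹ᵁ S₁).ι ≫ q₀ ≫ g from morphismRestrict_ι_assoc q₀ S₁ g]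
      simp only [q₀, Category.assoc])
  have hσ : σ ≫ f = q₂ := pullback.lift_snd _ _ _
  let u₁ : S₁.toScheme := ⟨u, huS₁⟩
  have hu₁ : g₁ u₁ = s := hnb.base_eq
  have hfu : GeometricallyConnected (f.fiberToSpecResidueField u₁) := by
    refine MorphismProperty.of_isPullback (P := @GeometricallyConnected)
      (isPullback_fiberToSpecResidueField_of_isPullback (IsPullback.of_hasPullback h g₁) u₁) ?_
    rw [hu₁]
    exact hT
  have hu₁r : u₁ ∈ Set.range q₂ := by
    have hv' : q₀ ⟨vs (), hvV⟩ = u := hvu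
    refine ⟨⟨⟨vs (), hvV⟩, show q₀ ⟨vs (), hvV⟩ ∈ S₁ from hv'.symm ▸ huS₁⟩, ?_⟩
    exact Subtype.ext ((congrArg (fun t => t) (morphismRestrict_base_coe q₀ S₁ _)).trans hv')
  obtain ⟨U', hU'c, hU'y, hU'⟩ := exists_open_geomConn_near f q₂ u₁ hu₁r hfu σ hσ
  haveI : CompactSpace ↥(pullback h g₁) := QuasiCompact.compactSpace_of_compactSpace f
  haveI : QuasiSeparatedSpace ↥(pullback h g₁) := quasiSeparatedSpace_of_quasiSeparated f
  haveI : UniversallyOpen f := inferInstance
  let F : S₁.toScheme.Opens := ⟨f '' (U' : Set ↑(pullback h g₁)), f.isOpenMap _ U'.2⟩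
  obtain ⟨c₂, hc₂⟩ : u₁ ∈ Set.range f := by
    obtain ⟨a, ha⟩ := hu₁r
    exact ⟨σ a, by rw [← Scheme.Hom.comp_apply, hσ, ha]⟩
  have huF : u₁ ∈ F := ⟨c₂, hU'y hc₂, hc₂⟩
  obtain ⟨S₂, hS₂, huS₂, hS₂F⟩ := exists_isAffineOpen_mem_and_subset (x := u₁) (U := F) huF
  haveI : IsAffine S₂.toScheme := hS₂
  let g' := S₂.ι ≫ g₁
  let u₂ : S₂.toScheme := ⟨u₁, huS₂⟩
  let J : pullback h g' ⟶ pullback h g₁ := pullback.lift (pullback.fst h g') (pullback.snd h g' ≫ S₂.ι)
    (by rw [pullback.condition, Category.assoc])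
  have hJ : IsPullback J (pullback.snd h g') f S₂.ι := by
    refine IsPullback.of_right ?_ (pullback.lift_snd _ _ _) (IsPullback.of_hasPullback h g₁)
    rw [show J ≫ pullback.fst h g₁ = pullback.fst h g' from pullback.lift_fst _ _ _]
    exact IsPullback.of_hasPullback h g'
  haveI : IsOpenImmersion J := MorphismProperty.of_isPullback (P := @IsOpenImmersion) hJ.flip inferInstance
  haveI : Etale g' := inferInstance
  refine ⟨S₂, g', u₂, inferInstance, ⟨inferInstance, hu₁, ?_⟩, J ⁻¹ᵁ U', ?_, ?_, ?_⟩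
  · refine residueFieldMap_bijective_comp S₂.ι g₁ u₂ (residueFieldMap_bijective_comp S₁.ι g u₁ ?_)
    exact hnb.residue_bijective
  · haveI : CompactSpace ↥(pullback h g') := QuasiCompact.compactSpace_of_compactSpace (pullback.snd h g')
    rw [J.isOpenEmbedding.isEmbedding.isCompact_iff, Scheme.Hom.coe_preimage, Set.image_preimage_eq_inter_range]
    exact QuasiSeparatedSpace.inter_isCompact _ _ U'.2 hU'c J.isOpenEmbedding.isOpen_range
      (isCompact_range J.continuous)
  · refine GeometricallyConnected.iff_geometricallyConnected_fiber _ |>.2 fun w => ?_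
    have hsq : IsPullback (J ∣_ U') ((J ⁻¹ᵁ U').ι ≫ pullback.snd h g') (U'.ι ≫ f) S₂.ι :=
      (isPullback_morphismRestrict J U').paste_vert hJ
    refine MorphismProperty.of_isPullback (P := @GeometricallyConnected)
      (isPullback_fiberToSpecResidueField_of_isPullback hsq w) ?_
    obtain ⟨x, hx, hfx⟩ := hS₂F w.2
    exact hU' _ ⟨x, hx, hfx⟩
  · intro w hw
    refine hU'y ?_
    show f (J w) = u₁
    rw [← Scheme.Hom.comp_apply, hJ.w, Scheme.Hom.comp_apply, show pullback.snd h g' w = u₂ from hw]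
    rfl

end Groth.Agent.SmoothSecLib
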