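import Groth.Agent.SmoothSecLib.ClopenImage
import Groth.Agent.GenIrredLib.SectionFlat
import Groth.Agent.SteinConn.Components
import Groth.Agent.ArtGrpLib.Component
import Groth.Agent.SmoothSliceLib.Scheme
import Groth.Agent.SmoothSliceLib.SepPoint
import Groth.Agent.FlatLocus.PointScheme
import Groth.Agent.FLCLib.Topology
import Groth.Agent.S2155

/-!
# Geometrically connected neighbourhoods over étale bases
-/

set_option autoImplicit false
set_option backward.isDefEq.respectTransparency false
set_option backward.isDefEq.respectTransparency.types false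
set_option linter.style.haveILetI false
set_option maxHeartbeats 1000000

universe u

open CategoryTheory CategoryTheory.Limits AlgebraicGeometry Topology

namespace Groth.Agent.SmoothSecLib

/-- Smooth points are dense in geometrically reduced schemes of finite type over a field. -/
theorem exists_mem_smoothLocus {k : Type u} [Field k] {X : Scheme.{u}} (p : X ⟶ Spec (CommRingCat.of k))
    [GeometricallyReduced p] [LocallyOfFinitePresentation p] (O : X.Opens) (hO : (O : Set X).Nonempty) :
    ∃ x ∈ O, x ∈ p.smoothLocus := by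
  let kb := AlgebraicClosure k
  let w : Spec (CommRingCat.of kb) ⟶ Spec (CommRingCat.of k) := Spec.map (CommRingCat.ofHom (algebraMap k kb))
  let q := pullback.snd p w
  let m := pullback.fst p w
  haveI : Flat w := inferInstance
  haveI : Surjective w := GeomIrred.surjective_specMap_field k kb
  haveI : Surjective m := MorphismProperty.pullback_fst (P := @Surjective) _ _ ‹_›
  haveI : LocallyOfFinitePresentation q := MorphismProperty.pullback_snd (P := @LocallyOfFinitePresentation) _ _ ‹_›
  haveI : IsReduced (pullback p w) :=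
    pullback_of_geometrically (‹GeometricallyReduced p›).geometrically_isReduced _ _
  obtain ⟨x₀, hx₀⟩ := hO
  obtain ⟨z₀, hz₀⟩ := m.surjective x₀
  obtain ⟨z, hzO, hz⟩ := (q.dense_smoothLocus_of_perfectField).inter_open_nonempty (m ⁻¹' (O : Set X))
    (O.2.preimage m.continuous) ⟨z₀, show m z₀ ∈ O from hz₀ ▸ hx₀⟩
  refine ⟨m z, hzO, ?_⟩
  rw [S2155.result p w q m (IsPullback.of_hasPullback p w) (Or.inr inferInstance)] at hz
  exact hz

/-- Open subschemes of geometrically reduced schemes are geometrically reduced. -/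
theorem geometricallyReduced_comp_openImmersion {V X S : Scheme.{u}} (j : V ⟶ X) [IsOpenImmersion j] (f : X ⟶ S)
    [GeometricallyReduced f] : GeometricallyReduced (j ≫ f) := by
  refine ⟨fun K _ a W p q H => ?_⟩
  let n : W ⟶ pullback f a := pullback.lift (p ≫ j) q (by rw [Category.assoc]; exact H.w)
  have hn : IsPullback p n j (pullback.fst f a) := by
    refine IsPullback.of_bot (v₂₁ := pullback.snd f a) (v₂₂ := f) (h₃₁ := a) ?_
      (pullback.lift_fst _ _ _).symm (IsPullback.of_hasPullback _ _)
    rw [pullback.lift_snd]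
    exact H
  haveI : IsOpenImmersion n := MorphismProperty.of_isPullback hn ‹IsOpenImmersion j›
  haveI : IsReduced (pullback f a) :=
    pullback_of_geometrically (‹GeometricallyReduced f›).geometrically_isReduced _ _
  exact isReduced_of_isOpenImmersion n

variable {S S' X : Scheme.{u}}

/-- A component of a fibre through an image point lies in the image of the section components. -/
theorem component_subset_image (f : X ⟶ S) [LocallyOfFiniteType f] (g : S' ⟶ S) {P : Scheme.{u}} (m : P ⟶ X)
    (f' : P ⟶ S') (hc : IsPullback m f' f g) (σ : S' ⟶ P) (hσ : σ ≫ f' = 𝟙 _) (s' : S') :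
    connectedComponentIn (f ⁻¹' {g s'}) (m (σ s')) ⊆ m '' MoreMor.sectionComponents f' σ := by
  intro y hyx
  haveI : LocallyOfFiniteType f' := MorphismProperty.of_isPullback hc ‹_›
  have H := isPullback_fiberToSpecResidueField_of_isPullback hc s'
  let μ := pullback.map f' (S'.fromSpecResidueField s') f (S.fromSpecResidueField (g s')) m
    (Spec.map (g.residueFieldMap s')) g hc.w.symm (by simp)
  have hμ : ∀ z, f.fiberι (g s') (μ z) = m (f'.fiberι s' z) := fun z =>
    congrArg (fun t : f'.fiber s' ⟶ X => t z) (pullback.lift_fst _ _ _ : μ ≫ f.fiberι (g s') = f'.fiberι s' ≫ m)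
  obtain ⟨z, hz⟩ : σ s' ∈ Set.range (f'.fiberι s') := by
    rw [f'.range_fiberι]
    exact SteinConn.apply_section f' σ hσ s'
  haveI : LocallyOfFiniteType (f'.fiberToSpecResidueField s') :=
    MorphismProperty.pullback_snd (P := @LocallyOfFiniteType) _ _ inferInstance
  haveI : IsLocallyNoetherian (f'.fiber s') :=
    LocallyOfFiniteType.isLocallyNoetherian (f'.fiberToSpecResidueField s')
  have hD : IsClopen (connectedComponent z) :=
    ⟨isClosed_connectedComponent, ArtGrpLib.isOpen_connectedComponent z⟩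
  have hμD : IsClopen (μ '' connectedComponent z) :=
    isClopen_image_of_isPullback (k := S.residueField (g s')) (K := S'.residueField s') H hD
  have hcomp : connectedComponentIn (f ⁻¹' {g s'}) (m (σ s')) =
      f.fiberι (g s') '' connectedComponent (μ z) := by
    have he' : f.fiberι (g s') (μ z) = m (σ s') := by rw [hμ, hz]
    rw [← f.range_fiberι (g s'), ← he']
    exact GenIrredLib.connectedComponentIn_range (f.fiberι (g s')).isEmbedding _
  have hyx' : y ∈ f.fiberι (g s') '' connectedComponent (μ z) := hcomp ▸ hyx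
  obtain ⟨v, hv, rfl⟩ := hyx'
  obtain ⟨d, hd, rfl⟩ := hμD.connectedComponent_subset ⟨z, mem_connectedComponent, rfl⟩ hv
  refine ⟨f'.fiberι s' d, ?_, (hμ d).symm⟩
  have h1 : f'.fiberι s' d ∈ connectedComponentIn (f' ⁻¹' {s'}) (σ s') := by
    rw [← f'.range_fiberι s', ← hz, GenIrredLib.connectedComponentIn_range (f'.fiberι s').isEmbedding]
    exact ⟨d, hd, rfl⟩
  exact (GenIrredLib.mem_sectionComponents_of_mem f' σ h1).1

/-- Open section components have geometrically connected fibres. -/
theorem geometricallyConnected_sectionComponents (f : X ⟶ S) (e : S ⟶ X) (he : e ≫ f = 𝟙 S) (C : X.Opens)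
    (hC : (C : Set X) = MoreMor.sectionComponents f e) : GeometricallyConnected (C.ι ≫ f) := by
  refine ⟨fun K _ y Z fst snd hsq => ?_⟩
  let p := pullback.snd f y
  let m := pullback.fst f y
  let σ : Spec (CommRingCat.of K) ⟶ pullback f y :=
    pullback.lift (y ≫ e) (𝟙 _) (by rw [Category.assoc, he, Category.comp_id, Category.id_comp])
  have hσ : σ ≫ p = 𝟙 _ := pullback.lift_snd _ _ _
  have hbc := SteinConn.sectionComponents_baseChange f e he p m y (IsPullback.of_hasPullback f y) σ hσ
    (pullback.lift_fst _ _ _)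
  let j : Z ⟶ pullback f y := pullback.lift (fst ≫ C.ι) snd (by rw [Category.assoc]; exact hsq.w)
  have hj : IsPullback fst j C.ι m := by
    refine IsPullback.of_bot ?_ (pullback.lift_fst _ _ _).symm (IsPullback.of_hasPullback f y)
    rw [show j ≫ pullback.snd f y = snd from pullback.lift_snd _ _ _]
    exact hsq
  haveI : IsOpenImmersion j := MorphismProperty.of_isPullback (P := @IsOpenImmersion) hj inferInstance
  have hrange : Set.range j = m ⁻¹' (C : Set X) := by
    ext v
    constructor
    · rintro ⟨z, rfl⟩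
      show m (j z) ∈ C
      rw [← Scheme.Hom.comp_apply, ← hj.w, Scheme.Hom.comp_apply]
      exact (fst z).2
    · intro hv
      obtain ⟨z, -, hz⟩ := GenIrredLib.exists_point_of_isPullback hj (⟨m v, hv⟩ : (C : Scheme.{u})) v rfl
      exact ⟨z, hz⟩
  haveI : Subsingleton ↥(Spec (CommRingCat.of K)) := inferInstanceAs (Subsingleton (PrimeSpectrum K))
  let z₀ : ↥(Spec (CommRingCat.of K)) := IsLocalRing.closedPoint K
  have hconn : MoreMor.sectionComponents p σ = connectedComponent (σ z₀) := by
    refine Set.ext fun t => ?_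
    show t ∈ connectedComponentIn (p ⁻¹' {p t}) (σ (p t)) ↔ _
    rw [Subsingleton.elim (p t) z₀, show p ⁻¹' {z₀} = Set.univ from Set.eq_univ_of_forall fun w => Subsingleton.elim _ _,
      connectedComponentIn_univ]
  have hc : _root_.IsConnected (Set.range j) := by
    rw [hrange, hC, ← hbc, hconn]
    exact isConnected_connectedComponent
  haveI := isConnected_iff_connectedSpace.mp hc
  exact j.isEmbedding.toHomeomorph.connectedSpace_iff.mpr ‹_›

/-- The section components over an affine base are quasi-compact. -/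
theorem isCompact_sectionComponents (f : X ⟶ S) [LocallyOfFinitePresentation f] [QuasiCompact f] [QuasiSeparated f]
    [IsAffine S] (e : S ⟶ X) (he : e ≫ f = 𝟙 S) : IsCompact (MoreMor.sectionComponents f e) := by
  haveI : CompactSpace X := QuasiCompact.compactSpace_of_compactSpace f
  haveI : QuasiSeparatedSpace X := quasiSeparatedSpace_of_quasiSeparated f
  exact FLCLib.isCompact_of_isConstructible
    (GenIrredLib.isLocallyConstructible_sectionComponents f e he).isConstructible

/-- Near every point a flat morphism with geometrically reduced fibres factors, after étale localization, with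
geometrically connected fibres. -/
theorem exists_geomConn_factorization_affine {W : Scheme.{u}} [IsAffine W] [IsAffine S] (g : W ⟶ S) [Flat g]
    [LocallyOfFinitePresentation g] [GeometricallyReduced g] (x : W) :
    ∃ (X' S' : Scheme.{u}) (a : X' ⟶ W) (b : X' ⟶ S') (c : S' ⟶ S), Etale a ∧ x ∈ Set.range ⇑a ∧ Etale c ∧
      a ≫ g = b ≫ c ∧ Flat b ∧ LocallyOfFinitePresentation b ∧ QuasiCompact b ∧ QuasiSeparated b ∧
      GeometricallyConnected b ∧ GeometricallyReduced b := by
  let s := g x
  let F := g.fiber s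
  let p := g.fiberToSpecResidueField s
  haveI : LocallyOfFinitePresentation p := MorphismProperty.pullback_snd (P := @LocallyOfFinitePresentation) _ _ ‹_›
  haveI : IsLocallyNoetherian F := LocallyOfFiniteType.isLocallyNoetherian p
  obtain ⟨x₁, hx₁⟩ : x ∈ Set.range (g.fiberι s) := by rw [g.range_fiberι]; rfl
  let C₁ : F.Opens := ⟨connectedComponent x₁, ArtGrpLib.isOpen_connectedComponent x₁⟩
  obtain ⟨c₁, hc₁C, hc₁⟩ := exists_mem_smoothLocus (k := S.residueField s) p C₁ ⟨x₁, mem_connectedComponent⟩
  obtain ⟨O₁, hO₁, hO₁e⟩ := (g.fiberι s).isEmbedding.isInducing.isOpen_iff.1 C₁.2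
  let O : W.Opens := g.smoothLocus ⊓ ⟨O₁, hO₁⟩
  have hcO : g.fiberι s c₁ ∈ O := by
    refine ⟨?_, (Set.ext_iff.1 hO₁e c₁).2 hc₁C⟩
    exact (FlatLocus.mem_smoothLocus_iff_fibre g s c₁).2 ⟨Flat.stalkMap g _, hc₁⟩
  haveI : Smooth (O.ι ≫ g) := by
    rw [← Scheme.Hom.smoothLocus_eq_top_iff, ← Scheme.Hom.preimage_smoothLocus_eq]
    exact eq_top_iff.2 fun u _ => u.2.1
  have hsc : g (g.fiberι s c₁) = s := (Set.ext_iff.1 (g.range_fiberι s) _).1 ⟨c₁, rfl⟩
  obtain ⟨c', hc's, hc'sep⟩ := SmoothSliceLib.exists_separable_point (O.ι ≫ g) s ⟨⟨_, hcO⟩, hsc⟩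
  obtain ⟨Z, i, z, -, hZet, hzc, -⟩ := SmoothSliceLib.exists_etale_slice_scheme (O.ι ≫ g) c' hc'sep
  obtain ⟨Z₀, hZ₀, hzZ₀, -⟩ := exists_isAffineOpen_mem_and_subset (X := Z) (x := z) (U := ⊤) trivial
  haveI : IsAffine (Z₀ : Scheme.{u}) := hZ₀
  let γ : (Z₀ : Scheme.{u}) ⟶ W := Z₀.ι ≫ i ≫ O.ι
  haveI : Etale (γ ≫ g) := by
    haveI := hZet
    show Etale ((Z₀.ι ≫ i ≫ O.ι) ≫ g)
    simp only [Category.assoc]
    infer_instance
  let P := pullback g (γ ≫ g)
  let f' := pullback.snd g (γ ≫ g)
  let m := pullback.fst g (γ ≫ g)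
  let σ : (Z₀ : Scheme.{u}) ⟶ P := pullback.lift γ (𝟙 _) (Category.id_comp _).symm
  have hσ : σ ≫ f' = 𝟙 _ := pullback.lift_snd _ _ _
  haveI : QuasiCompact g := inferInstance
  haveI : Flat f' := MorphismProperty.pullback_snd (P := @Flat) _ _ ‹_›
  haveI : LocallyOfFinitePresentation f' := MorphismProperty.pullback_snd (P := @LocallyOfFinitePresentation) _ _ ‹_›
  let C : P.Opens := ⟨MoreMor.sectionComponents f' σ,
    GenIrredLib.isOpen_sectionComponents_of_flat f' σ hσ fun y => inferInstance⟩
  haveI : CompactSpace ↥(C : Scheme.{u}) :=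
    isCompact_iff_compactSpace.1 (isCompact_sectionComponents f' σ hσ)
  haveI : Etale m := MorphismProperty.pullback_fst (P := @Etale) _ _ ‹_›
  refine ⟨C, Z₀, C.ι ≫ m, C.ι ≫ f', γ ≫ g, inferInstance, ?_, inferInstance, ?_, inferInstance, inferInstance,
    quasiCompact_of_compactSpace _, inferInstance, geometricallyConnected_sectionComponents f' σ hσ C rfl,
    geometricallyReduced_comp_openImmersion C.ι f'⟩
  · let z₀ : (Z₀ : Scheme.{u}) := ⟨z, hzZ₀⟩
    have hγ : γ z₀ = O.ι c' := by
      show (Z₀.ι ≫ i ≫ O.ι) z₀ = _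
      rw [Scheme.Hom.comp_apply, Scheme.Hom.comp_apply]
      exact congrArg O.ι hzc
    have hgz : (γ ≫ g) z₀ = s := by
      rw [Scheme.Hom.comp_apply, hγ, ← Scheme.Hom.comp_apply]
      exact hc's
    have hσm : m (σ z₀) = O.ι c' := by
      rw [← Scheme.Hom.comp_apply, show σ ≫ m = γ from pullback.lift_fst _ _ _, hγ]
    have hsub := component_subset_image g (γ ≫ g) m f' (IsPullback.of_hasPullback _ _) σ hσ z₀
    rw [hgz, hσm] at hsub
    have hx : x ∈ connectedComponentIn (g ⁻¹' {s}) (O.ι c') := by
      obtain ⟨v, hv⟩ : O.ι c' ∈ Set.range (g.fiberι s) := by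
        rw [g.range_fiberι]
        exact hc's
      have hvC : v ∈ connectedComponent x₁ := (Set.ext_iff.1 hO₁e v).1 (by
        show g.fiberι s v ∈ O₁
        rw [hv]
        exact c'.2.2)
      rw [← g.range_fiberι s, ← hv, GenIrredLib.connectedComponentIn_range (g.fiberι s).isEmbedding,
        ← connectedComponent_eq hvC]
      exact ⟨x₁, mem_connectedComponent, hx₁⟩
    obtain ⟨w, hw, hwx⟩ := hsub hx
    exact ⟨⟨w, hw⟩, by rw [Scheme.Hom.comp_apply]; exact hwx⟩
  · rw [Category.assoc, Category.assoc, pullback.condition]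

/-- Étale-local factorizations with geometrically connected fibres. -/
theorem exists_geomConn_factorization (f : X ⟶ S) [Flat f] [LocallyOfFinitePresentation f] [GeometricallyReduced f]
    (x : X) :
    ∃ (X' S' : Scheme.{u}) (a : X' ⟶ X) (b : X' ⟶ S') (c : S' ⟶ S), Etale a ∧ x ∈ Set.range ⇑a ∧ Etale c ∧
      a ≫ f = b ≫ c ∧ Flat b ∧ LocallyOfFinitePresentation b ∧ QuasiCompact b ∧ QuasiSeparated b ∧
      GeometricallyConnected b ∧ GeometricallyReduced b := by
  obtain ⟨V, hV, hxV, -⟩ := exists_isAffineOpen_mem_and_subset (X := S) (x := f x) (U := ⊤) trivial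
  obtain ⟨W, hW, hxW, hWV⟩ := exists_isAffineOpen_mem_and_subset (X := X) (x := x) (U := f ⁻¹ᵁ V) hxV
  haveI : IsAffine (V : Scheme.{u}) := hV
  haveI : IsAffine (W : Scheme.{u}) := hW
  let j := X.homOfLE hWV
  let g : (W : Scheme.{u}) ⟶ V := j ≫ (f ∣_ V)
  have hg : g ≫ V.ι = W.ι ≫ f := by
    show (j ≫ f ∣_ V) ≫ V.ι = W.ι ≫ f
    rw [Category.assoc, morphismRestrict_ι, ← Category.assoc, X.homOfLE_ι]
  haveI : LocallyOfFinitePresentation g := inferInstance
  haveI : GeometricallyReduced g := geometricallyReduced_comp_openImmersion j (f ∣_ V)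
  obtain ⟨X', S', a, b, c, ha, hxa, hc, e, hb⟩ := exists_geomConn_factorization_affine g (⟨x, hxW⟩ : (W : Scheme.{u}))
  haveI := ha
  haveI := hc
  refine ⟨X', S', a ≫ W.ι, b, c ≫ V.ι, inferInstance, ?_, inferInstance, ?_, hb⟩
  · obtain ⟨w, hw⟩ := hxa
    exact ⟨w, by rw [Scheme.Hom.comp_apply, hw]; rfl⟩
  · rw [Category.assoc, ← hg, reassoc_of% e]

end Groth.Agent.SmoothSecLib
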