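import Groth.Agent.SmoothSecLib.GeomConn

/-!
# Spreading out a geometrically connected fibre along a finite locally free multisection
-/

set_option autoImplicit false
set_option backward.isDefEq.respectTransparency false
set_option backward.isDefEq.respectTransparency.types false
set_option linter.style.haveILetI false
set_option maxHeartbeats 1000000

universe u

open CategoryTheory CategoryTheory.Limits AlgebraicGeometry Topology

namespace Groth.Agent.SmoothSecLib

/-- Geometric connectedness of a fibre descends along base change. -/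
theorem geometricallyConnected_fiber_of_isPullback {X Y X' Y' : Scheme.{u}} {f : X ⟶ Y} {f' : X' ⟶ Y'}
    {g : Y' ⟶ Y} {g' : X' ⟶ X} (hc : IsPullback g' f' f g) (z : Y')
    (h : GeometricallyConnected (f'.fiberToSpecResidueField z)) :
    GeometricallyConnected (f.fiberToSpecResidueField (g z)) := by
  have H := isPullback_fiberToSpecResidueField_of_isPullback hc z
  haveI : Surjective (Spec.map (g.residueFieldMap z)) :=
    ⟨fun _ => ⟨IsLocalRing.closedPoint (Y'.residueField z), Subsingleton.elim (α := PrimeSpectrum (Y.residueField (g z))) _ _⟩⟩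
  haveI : GeometricallyConnected (pullback.snd (f.fiberToSpecResidueField (g z)) (Spec.map (g.residueFieldMap z))) :=
    MorphismProperty.of_isPullback (P := @GeometricallyConnected)
      (show IsPullback H.isoPullback.inv (pullback.snd (f.fiberToSpecResidueField (g z)) (Spec.map (g.residueFieldMap z)))
        (f'.fiberToSpecResidueField z) (𝟙 _) from
        IsPullback.of_horiz_isIso ⟨by rw [H.isoPullback_inv_snd, Category.comp_id]⟩) h
  exact GeomIrred.geometricallyConnected_of_surjective _ (Spec.map (g.residueFieldMap z))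

/-- The base change of a geometrically connected fibre is connected. -/
theorem isPreconnected_fibre_of_isPullback {X Y X' Y' : Scheme.{u}} {f : X ⟶ Y} {f' : X' ⟶ Y'}
    {g : Y' ⟶ Y} {g' : X' ⟶ X} (hc : IsPullback g' f' f g) (z : Y')
    (h : GeometricallyConnected (f.fiberToSpecResidueField (g z))) : _root_.IsPreconnected (f' ⁻¹' {z}) := by
  have H := isPullback_fiberToSpecResidueField_of_isPullback hc z
  haveI : GeometricallyConnected (f'.fiberToSpecResidueField z) :=
    MorphismProperty.of_isPullback (P := @GeometricallyConnected) H h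
  haveI : Subsingleton ↥(Spec (Y'.residueField z)) := inferInstanceAs (Subsingleton (PrimeSpectrum _))
  haveI : Nonempty ↥(Spec (Y'.residueField z)) := inferInstanceAs (Nonempty (PrimeSpectrum _))
  haveI : ConnectedSpace ↥(f'.fiber z) :=
    GeometricallyConnected.connectedSpace_of_subsingleton (f'.fiberToSpecResidueField z)
  rw [← f'.range_fiberι]
  exact (isConnected_range (f'.fiberι z).continuous).isPreconnected

variable {X Y Z : Scheme.{u}} (f : X ⟶ Y) [Flat f] [LocallyOfFinitePresentation f] [QuasiCompact f] [QuasiSeparated f]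
  [GeometricallyReduced f] (g : Z ⟶ Y) [IsFinite g] [Flat g] [LocallyOfFinitePresentation g]
  (σ : Z ⟶ X) (hσ : σ ≫ f = g)

/-- The tautological section. -/
noncomputable def tautSec : Z ⟶ pullback f g := pullback.lift σ (𝟙 Z) (by rw [Category.id_comp, hσ])

theorem tautSec_snd : tautSec f g σ hσ ≫ pullback.snd f g = 𝟙 Z := pullback.lift_snd _ _ _

theorem tautSec_fst : tautSec f g σ hσ ≫ pullback.fst f g = σ := pullback.lift_fst _ _ _

/-- The open of components through the two tautological sections agreeing. -/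
def sameComponent : Set ↥(pullback g g) :=
  (fun q => pullback.lift (pullback.snd g g ≫ σ) (pullback.fst g g)
      (by rw [Category.assoc, hσ, pullback.condition]) q) ⁻¹'
    MoreMor.sectionComponents (pullback.snd f g) (tautSec f g σ hσ)

theorem isOpen_sameComponent : IsOpen (sameComponent f g σ hσ) :=
  (GenIrredLib.isOpen_sectionComponents_of_flat (pullback.snd f g) (tautSec f g σ hσ) (tautSec_snd f g σ hσ)
    fun _ => inferInstance).preimage (Scheme.Hom.continuous _)

/-- Pairs of points with the same image lie in the same component when the sections agree. -/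
theorem mem_sectionComponents_of_pair (w w' : ↥(pullback f g))
    (hw : pullback.fst f g w = pullback.fst f g w')
    (hq : ∀ q : ↥(pullback g g), pullback.fst g g q = pullback.snd f g w → pullback.snd g g q = pullback.snd f g w' →
      q ∈ sameComponent f g σ hσ)
    (h : w' ∈ MoreMor.sectionComponents (pullback.snd f g) (tautSec f g σ hσ)) :
    w ∈ MoreMor.sectionComponents (pullback.snd f g) (tautSec f g σ hσ) := by
  let P := pullback f g
  let f' := pullback.snd f g
  let m := pullback.fst f g
  let τ := tautSec f g σ hσ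
  let p₁ := pullback.fst g g
  let p₂ := pullback.snd g g
  let P₂ := pullback f (p₁ ≫ g)
  let s₂ := pullback.snd f (p₁ ≫ g)
  let π₁ : P₂ ⟶ P := pullback.lift (pullback.fst f (p₁ ≫ g)) (s₂ ≫ p₁) (by
    rw [pullback.condition, Category.assoc])
  let π₂ : P₂ ⟶ P := pullback.lift (pullback.fst f (p₁ ≫ g)) (s₂ ≫ p₂) (by
    rw [pullback.condition, Category.assoc]
    exact congrArg (s₂ ≫ ·) pullback.condition)
  have hπ₁ : IsPullback π₁ s₂ f' p₁ := by
    refine IsPullback.of_right ?_ (pullback.lift_snd _ _ _) (IsPullback.of_hasPullback f g)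
    rw [show π₁ ≫ pullback.fst f g = pullback.fst f (p₁ ≫ g) from pullback.lift_fst _ _ _]
    exact IsPullback.of_hasPullback _ _
  have hπ₂ : IsPullback π₂ s₂ f' p₂ := by
    refine IsPullback.of_right ?_ (pullback.lift_snd _ _ _) (IsPullback.of_hasPullback f g)
    rw [show π₂ ≫ pullback.fst f g = pullback.fst f (p₁ ≫ g) from pullback.lift_fst _ _ _]
    have hP : ∀ k : pullback g g ⟶ Y, k = p₁ ≫ g → IsPullback (pullback.fst f (p₁ ≫ g)) s₂ f k := by
      intro k hk
      subst hk
      exact IsPullback.of_hasPullback _ _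
    exact hP _ pullback.condition.symm
  let τ₁ : pullback g g ⟶ P₂ := pullback.lift (p₁ ≫ σ) (𝟙 _) (by rw [Category.assoc, hσ, Category.id_comp])
  let τ₂ : pullback g g ⟶ P₂ := pullback.lift (p₂ ≫ σ) (𝟙 _) (by
    rw [Category.assoc, hσ, Category.id_comp]; exact pullback.condition.symm)
  have h₁ := SteinConn.sectionComponents_baseChange f' τ (tautSec_snd f g σ hσ) s₂ π₁ p₁ hπ₁ τ₁
    (pullback.lift_snd _ _ _) (by
      refine pullback.hom_ext ?_ ?_
      · simp only [π₁, τ₁, τ, tautSec, Category.assoc, pullback.lift_fst]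
      · simp only [π₁, τ₁, s₂, τ, tautSec, Category.assoc, pullback.lift_snd, pullback.lift_snd_assoc,
          Category.id_comp, Category.comp_id])
  have h₂ := SteinConn.sectionComponents_baseChange f' τ (tautSec_snd f g σ hσ) s₂ π₂ p₂ hπ₂ τ₂
    (pullback.lift_snd _ _ _) (by
      refine pullback.hom_ext ?_ ?_
      · simp only [π₂, τ₂, τ, tautSec, Category.assoc, pullback.lift_fst]
      · simp only [π₂, τ₂, s₂, τ, tautSec, Category.assoc, pullback.lift_snd, pullback.lift_snd_assoc,
          Category.id_comp, Category.comp_id])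
  obtain ⟨t, ht₁, ht₂⟩ := Scheme.Pullback.exists_preimage_pullback (f := m) (g := m) w w' hw
  let q' : pullback m m ⟶ pullback g g := pullback.lift (pullback.fst m m ≫ f') (pullback.snd m m ≫ f') (by
    rw [Category.assoc, Category.assoc, ← pullback.condition, ← Category.assoc, ← Category.assoc]
    exact congrArg (· ≫ f) pullback.condition)
  let d : pullback m m ⟶ P₂ := pullback.lift (pullback.fst m m ≫ m) q' (by
    rw [← Category.assoc q', show q' ≫ p₁ = pullback.fst m m ≫ f' from pullback.lift_fst _ _ _, Category.assoc,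
      Category.assoc, pullback.condition])
  have hd₁ : d ≫ π₁ = pullback.fst m m := by
    refine pullback.hom_ext ?_ ?_
    · simp only [π₁, d, m, Category.assoc, pullback.lift_fst]
    · simp only [π₁, d, s₂, q', p₁, f', Category.assoc, pullback.lift_snd, pullback.lift_snd_assoc, pullback.lift_fst]
  have hd₂ : d ≫ π₂ = pullback.snd m m := by
    refine pullback.hom_ext ?_ ?_
    · simp only [π₂, d, Category.assoc, pullback.lift_fst]
      exact pullback.condition
    · simp only [π₂, d, s₂, q', p₂, f', Category.assoc, pullback.lift_snd, pullback.lift_snd_assoc]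
  let v := d t
  have hv₁ : π₁ v = w := by rw [← Scheme.Hom.comp_apply, hd₁, ht₁]
  have hv₂ : π₂ v = w' := by rw [← Scheme.Hom.comp_apply, hd₂, ht₂]
  let q := s₂ v
  have hq₁ : p₁ q = f' w := by
    rw [← hv₁]
    show p₁ (s₂ v) = _
    rw [← Scheme.Hom.comp_apply, ← Scheme.Hom.comp_apply]
    exact congrArg (fun k : P₂ ⟶ Z => k v) hπ₁.w.symm
  have hq₂ : p₂ q = f' w' := by
    rw [← hv₂]
    show p₂ (s₂ v) = _
    rw [← Scheme.Hom.comp_apply, ← Scheme.Hom.comp_apply]
    exact congrArg (fun k : P₂ ⟶ Z => k v) hπ₂.w.symm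
  have hmem := hq q hq₁ hq₂
  have e1 : τ₂ q ∈ MoreMor.sectionComponents s₂ τ₁ := by
    rw [h₁, Set.mem_preimage, ← Scheme.Hom.comp_apply]
    have : τ₂ ≫ π₁ = pullback.lift (p₂ ≫ σ) p₁ (by rw [Category.assoc, hσ, pullback.condition]) := by
      refine pullback.hom_ext ?_ ?_
      · simp only [π₁, τ₂, Category.assoc, pullback.lift_fst]
      · simp only [π₁, τ₂, s₂, Category.assoc, pullback.lift_snd, pullback.lift_snd_assoc, Category.id_comp]
    rw [this]
    exact hmem
  have e2 : v ∈ MoreMor.sectionComponents s₂ τ₂ := by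
    rw [h₂, Set.mem_preimage, hv₂]
    exact h
  have e3 : s₂ (τ₂ q) = q := SteinConn.apply_section s₂ τ₂ (pullback.lift_snd _ _ _) q
  have e1' : τ₂ q ∈ connectedComponentIn (s₂ ⁻¹' {q}) (τ₁ q) := by
    have := GenIrredLib.mem_component_of_mem s₂ τ₁ e1
    rwa [e3] at this
  have e2' : v ∈ connectedComponentIn (s₂ ⁻¹' {q}) (τ₂ q) := GenIrredLib.mem_component_of_mem s₂ τ₂ e2
  rw [← connectedComponentIn_eq e1'] at e2'
  have e4 : v ∈ MoreMor.sectionComponents s₂ τ₁ := (GenIrredLib.mem_sectionComponents_of_mem s₂ τ₁ e2').1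
  rwa [h₁, Set.mem_preimage, hv₁] at e4

/-- Opens agreeing on a fibre have the same fibre. -/
theorem geometricallyConnected_fiber_of_le {P W : Scheme.{u}} (p : P ⟶ W) {D C : P.Opens} (hle : D ≤ C) (z : W)
    (heq : ∀ v : P, v ∈ C → p v = z → v ∈ D) (h : GeometricallyConnected ((C.ι ≫ p).fiberToSpecResidueField z)) :
    GeometricallyConnected ((D.ι ≫ p).fiberToSpecResidueField z) := by
  let j := P.homOfLE hle
  have hj : j ≫ C.ι = D.ι := P.homOfLE_ι hle
  let μ : (D.ι ≫ p).fiber z ⟶ (C.ι ≫ p).fiber z :=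
    pullback.lift ((D.ι ≫ p).fiberι z ≫ j) ((D.ι ≫ p).fiberToSpecResidueField z)
      (by rw [Category.assoc, reassoc_of% hj]; exact pullback.condition)
  have hμ : IsPullback ((D.ι ≫ p).fiberι z) μ j ((C.ι ≫ p).fiberι z) := by
    refine IsPullback.of_bot (v₂₁ := (C.ι ≫ p).fiberToSpecResidueField z) (v₂₂ := C.ι ≫ p) ?_
      (pullback.lift_fst _ _ _).symm (IsPullback.of_hasPullback _ _)
    rw [show μ ≫ (C.ι ≫ p).fiberToSpecResidueField z = (D.ι ≫ p).fiberToSpecResidueField z from
      pullback.lift_snd _ _ _, reassoc_of% hj]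
    exact IsPullback.of_hasPullback _ _
  haveI : IsOpenImmersion μ := MorphismProperty.of_isPullback (P := @IsOpenImmersion) hμ inferInstance
  haveI : Surjective μ := ⟨fun v => by
    let c : (C : Scheme.{u}) := (C.ι ≫ p).fiberι z v
    have hc : p c.1 = z := (Set.ext_iff.1 ((C.ι ≫ p).range_fiberι z) c).1 ⟨v, rfl⟩
    let d : (D : Scheme.{u}) := ⟨c.1, heq c.1 c.2 hc⟩
    have hd : j d = c := by
      apply C.ι.isOpenEmbedding.injective
      show (j ≫ C.ι) d = C.ι c
      rw [hj]
      rfl
    obtain ⟨w, -, hw⟩ := GenIrredLib.exists_point_of_isPullback hμ d v hd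
    exact ⟨w, hw⟩⟩
  haveI : Epi μ.base := (TopCat.epi_iff_surjective _).2 μ.surjective
  haveI : IsIso μ := (isIso_iff_isOpenImmersion_and_epi_base μ).2 ⟨‹_›, ‹_›⟩
  rw [show (D.ι ≫ p).fiberToSpecResidueField z = μ ≫ (C.ι ≫ p).fiberToSpecResidueField z from
    (pullback.lift_snd _ _ _).symm]
  exact (MorphismProperty.cancel_left_of_respectsIso @GeometricallyConnected μ _).2 h

/-- The components through the multisection, where the sections agree. -/
theorem exists_open_geomConn_of_sameComponent (U₀ : Y.Opens) (hU₀ : IsAffineOpen U₀)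
    (H : ∀ q : ↥(pullback g g), g (pullback.fst g g q) ∈ U₀ → q ∈ sameComponent f g σ hσ) :
    ∃ U : X.Opens, IsCompact (U : Set X) ∧
      (∀ z : Z, g z ∈ U₀ → connectedComponentIn (f ⁻¹' {g z}) (σ z) ⊆ (U : Set X)) ∧
      ∀ y' : Y, (∃ x ∈ U, f x = y') → GeometricallyConnected ((U.ι ≫ f).fiberToSpecResidueField y') := by
  let P := pullback f g
  let f' := pullback.snd f g
  let m := pullback.fst f g
  let τ := tautSec f g σ hσ
  have hτ := tautSec_snd f g σ hσ
  let C : P.Opens := ⟨MoreMor.sectionComponents f' τ,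
    GenIrredLib.isOpen_sectionComponents_of_flat f' τ hτ fun _ => inferInstance⟩
  haveI : Flat m := MorphismProperty.pullback_fst (P := @Flat) _ _ ‹_›
  haveI : LocallyOfFinitePresentation m := MorphismProperty.pullback_fst (P := @LocallyOfFinitePresentation) _ _ ‹_›
  haveI : UniversallyOpen m := inferInstance
  let K : P.Opens := f' ⁻¹ᵁ (g ⁻¹ᵁ U₀)
  have hgf : ∀ w : P, g (f' w) = f (m w) := fun w => by
    rw [← Scheme.Hom.comp_apply, ← Scheme.Hom.comp_apply, pullback.condition]
  let D₁ : P.Opens := C ⊓ K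
  let U : X.Opens := ⟨m '' (D₁ : Set P), m.isOpenMap _ D₁.2⟩
  have hsat : (m ⁻¹ᵁ U : Set P) = (D₁ : Set P) := by
    refine Set.Subset.antisymm ?_ fun w hw => ⟨w, hw, rfl⟩
    rintro w ⟨w', ⟨hw', hK⟩, he⟩
    have hwK : g (f' w) ∈ U₀ := by
      rw [hgf, ← he, ← hgf]
      exact hK
    exact ⟨mem_sectionComponents_of_pair f g σ hσ w w' he.symm
      (fun q hq₁ _ => H q (by rw [hq₁]; exact hwK)) hw', hwK⟩
  refine ⟨U, ?_, ?_, ?_⟩
  · haveI : IsAffine (g ⁻¹ᵁ U₀).toScheme := hU₀.preimage g
    haveI : CompactSpace ↥K.toScheme :=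
      QuasiCompact.compactSpace_of_compactSpace (f' ∣_ (g ⁻¹ᵁ U₀))
    haveI : QuasiSeparatedSpace ↥K.toScheme := quasiSeparatedSpace_of_quasiSeparated (f' ∣_ (g ⁻¹ᵁ U₀))
    have hc : IsCompact (K.ι ⁻¹' (C : Set P)) :=
      FLCLib.isCompact_of_isConstructible
        ((GenIrredLib.isLocallyConstructible_sectionComponents f' τ hτ).preimage_of_isOpenEmbedding
          K.ι.isOpenEmbedding).isConstructible
    have he : K.ι '' (K.ι ⁻¹' (C : Set P)) = (D₁ : Set P) := by
      rw [Set.image_preimage_eq_inter_range, Scheme.Opens.range_ι]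
      rfl
    have hD₁ : IsCompact (D₁ : Set P) := he ▸ hc.image K.ι.continuous
    exact hD₁.image m.continuous
  · intro z hz v hv
    obtain ⟨w, hw, hwv⟩ := component_subset_image f g m f' (IsPullback.of_hasPullback f g) τ hτ z
      (by rwa [show m (τ z) = σ z by rw [← Scheme.Hom.comp_apply, tautSec_fst]])
    refine ⟨w, ⟨hw, ?_⟩, hwv⟩
    show g (f' w) ∈ U₀
    rw [hgf, hwv, show f v = g z from connectedComponentIn_subset (f ⁻¹' {g z}) _ hv]
    exact hz
  · rintro y' ⟨x, ⟨w, hw, rfl⟩, rfl⟩
    let D : P.Opens := m ⁻¹ᵁ U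
    have hle : D ≤ C := fun v hv => (hsat.le hv).1
    have hD : IsPullback (m ∣_ U) (D.ι ≫ f') (U.ι ≫ f) g :=
      (isPullback_morphismRestrict m U).paste_vert (IsPullback.of_hasPullback f g)
    haveI : GeometricallyConnected (C.ι ≫ f') := geometricallyConnected_sectionComponents f' τ hτ C rfl
    have h1 : GeometricallyConnected ((D.ι ≫ f').fiberToSpecResidueField (f' w)) :=
      geometricallyConnected_fiber_of_le f' hle (f' w)
        (fun v hv hvz => hsat.ge ⟨hv, by show g (f' v) ∈ U₀; rw [hvz]; exact hw.2⟩) inferInstance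
    have := geometricallyConnected_fiber_of_isPullback hD (f' w) h1
    rwa [hgf] at this

/-- A multisection through a geometrically connected fibre spreads to a geometrically connected open. -/
theorem exists_open_geomConn_near (y : Y) (hy : y ∈ Set.range g)
    (h : GeometricallyConnected (f.fiberToSpecResidueField y)) (σ : Z ⟶ X) (hσ : σ ≫ f = g) :
    ∃ U : X.Opens, IsCompact (U : Set X) ∧ f ⁻¹' {y} ⊆ (U : Set X) ∧
      ∀ y' : Y, (∃ x ∈ U, f x = y') → GeometricallyConnected ((U.ι ≫ f).fiberToSpecResidueField y') := by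
  let f' := pullback.snd f g
  let τ := tautSec f g σ hσ
  let p₁ := pullback.fst g g
  haveI : IsFinite p₁ := MorphismProperty.pullback_fst (P := @IsFinite) _ _ ‹_›
  let bad := (p₁ ≫ g) '' (sameComponent f g σ hσ)ᶜ
  have hbad : IsClosed bad := (p₁ ≫ g).isClosedMap _ (isOpen_sameComponent f g σ hσ).isClosed_compl
  have hy' : y ∉ bad := by
    rintro ⟨q, hq, hqy⟩
    refine hq ?_
    let t := pullback.lift (pullback.snd g g ≫ σ) (pullback.fst g g)
      (by rw [Category.assoc, hσ, pullback.condition]) (f := f) (g := g)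
    have htz : f' (t q) = p₁ q := by
      rw [← Scheme.Hom.comp_apply]
      exact congrArg (fun k : pullback g g ⟶ Z => k q) (pullback.lift_snd _ _ _)
    have hτz : f' (τ (p₁ q)) = p₁ q := SteinConn.apply_section f' τ (tautSec_snd f g σ hσ) _
    have hpre : _root_.IsPreconnected (f' ⁻¹' {p₁ q}) := by
      refine isPreconnected_fibre_of_isPullback (IsPullback.of_hasPullback f g) (p₁ q) ?_
      rw [show g (p₁ q) = y from hqy]
      exact h
    have : t q ∈ connectedComponentIn (f' ⁻¹' {p₁ q}) (τ (p₁ q)) :=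
      hpre.subset_connectedComponentIn hτz subset_rfl htz
    exact (GenIrredLib.mem_sectionComponents_of_mem f' τ this).1
  obtain ⟨U₀, hU₀, hyU, hsub⟩ :=
    exists_isAffineOpen_mem_and_subset (X := Y) (x := y) (U := ⟨badᶜ, hbad.isOpen_compl⟩) hy'
  obtain ⟨U, hU, hcomp, hfib⟩ := exists_open_geomConn_of_sameComponent f g σ hσ U₀ hU₀
    fun q hq => by_contra fun hn => hsub hq ⟨q, hn, rfl⟩
  refine ⟨U, hU, ?_, hfib⟩
  obtain ⟨z, rfl⟩ := hy
  haveI := h
  haveI : Subsingleton ↥(Spec (Y.residueField (g z))) := inferInstanceAs (Subsingleton (PrimeSpectrum _))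
  haveI : Nonempty ↥(Spec (Y.residueField (g z))) := inferInstanceAs (Nonempty (PrimeSpectrum _))
  haveI : ConnectedSpace ↥(f.fiber (g z)) :=
    GeometricallyConnected.connectedSpace_of_subsingleton (f.fiberToSpecResidueField (g z))
  have hpre : _root_.IsPreconnected (f ⁻¹' {g z}) := by
    rw [← f.range_fiberι]
    exact (isConnected_range (f.fiberι (g z)).continuous).isPreconnected
  refine (hpre.subset_connectedComponentIn ?_ subset_rfl).trans (hcomp z hyU)
  show f (σ z) = g z
  rw [← Scheme.Hom.comp_apply, hσ]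

end Groth.Agent.SmoothSecLib
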