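import Groth.Agent.SmoothSecLib.GeomConn
import Groth.Agent.NormalTensor.Field
import Groth.Agent.FinCondEasy.Components
import Groth.Prelude.Def_EGA4b

/-!
# Fibres of normal morphisms
-/

set_option autoImplicit false
set_option backward.isDefEq.respectTransparency false
set_option backward.isDefEq.respectTransparency.types false
set_option linter.style.haveILetI false
set_option maxHeartbeats 1000000

universe u

open CategoryTheory CategoryTheory.Limits AlgebraicGeometry TensorProduct

namespace Groth.Agent.SmoothSecLib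

/-- The hypothesis "affine-locally a normal ring map". -/
def IsNormalMor {Y S : Scheme.{u}} (h : Y ⟶ S) : Prop :=
  ∀ (U : Y.Opens) (V : S.Opens) (_ : IsAffineOpen U) (_ : IsAffineOpen V) (hUV : U ≤ h ⁻¹ᵁ V),
    letI := (h.appLE V U hUV).hom.toAlgebra
    EGA4.IsNormalHom Γ(S, V) Γ(Y, U)

variable {Y S : Scheme.{u}} (h : Y ⟶ S) (hn : IsNormalMor h)
include hn

theorem flat_of_isNormalMor : Flat h := by
  refine (HasRingHomProperty.iff_appLE (P := @Flat)).2 fun U V e => ?_
  exact (hn V U V.2 U.2 e).1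

theorem isDomain_stalk_pullback (K : Type u) [Field K] (y : Spec (CommRingCat.of K) ⟶ S)
    (z : ↑(pullback h y)) : IsDomain ((pullback h y).presheaf.stalk z) := by
  obtain ⟨V, hV, hxV, -⟩ := exists_isAffineOpen_mem_and_subset (X := S) (x := h (pullback.fst h y z)) (U := ⊤) trivial
  obtain ⟨U, hU, hxU, hUV⟩ := exists_isAffineOpen_mem_and_subset (x := pullback.fst h y z) (U := h ⁻¹ᵁ V) hxV
  letI : Algebra Γ(S, V) Γ(Y, U) := (h.appLE V U hUV).hom.toAlgebra
  haveI : Subsingleton ↥(Spec (CommRingCat.of K)) := inferInstanceAs (Subsingleton (PrimeSpectrum K))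
  let l : Spec (CommRingCat.of K) ⟶ Spec Γ(S, V) := IsOpenImmersion.lift hV.fromSpec y (by
    rintro _ ⟨w, rfl⟩
    rw [hV.range_fromSpec, Subsingleton.elim w (pullback.snd h y z), ← Scheme.Hom.comp_apply, ← pullback.condition,
      Scheme.Hom.comp_apply]
    exact hxV)
  have hl : l ≫ hV.fromSpec = y := IsOpenImmersion.lift_fac _ _ _
  let ev := Spec.preimage l
  letI algK : Algebra Γ(S, V) K := ev.hom.toAlgebra
  let p : Ideal Γ(S, V) := RingHom.ker (algebraMap Γ(S, V) K)
  haveI : p.IsPrime := RingHom.ker_isPrime _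
  letI : Algebra p.ResidueField K := (Ideal.ResidueField.lift p (algebraMap Γ(S, V) K) le_rfl
    (fun a ha => isUnit_iff_ne_zero.2 fun h0 => ha (RingHom.mem_ker.2 h0))).toAlgebra
  haveI : IsScalarTower Γ(S, V) p.ResidueField K :=
    IsScalarTower.of_algebraMap_eq fun a => (Ideal.ResidueField.lift_algebraMap _ _ _ _ _).symm
  have hnor : EGA4.IsNormalRing (K ⊗[Γ(S, V)] Γ(Y, U)) :=
    NormalTensor.isNormalRing_of_ringEquiv
      (Algebra.TensorProduct.cancelBaseChange Γ(S, V) p.ResidueField p.ResidueField K Γ(Y, U)).toRingEquiv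
      (NormalTensor.isNormalRing_tensor_field (E := K) ((hn U V hU hV hUV).2 p))
  let R := CommRingCat.of (K ⊗[Γ(S, V)] Γ(Y, U))
  let a : Spec R ⟶ Spec Γ(Y, U) := Spec.map (CommRingCat.ofHom Algebra.TensorProduct.includeRight.toRingHom)
  let b : Spec R ⟶ Spec (CommRingCat.of K) := Spec.map (CommRingCat.ofHom Algebra.TensorProduct.includeLeftRingHom)
  have h1 : IsPullback a b (Spec.map (h.appLE V U hUV)) l := by
    have := isPullback_SpecMap_of_isPushout _ _ _ _
      (CommRingCat.isPushout_tensorProduct Γ(S, V) K Γ(Y, U))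
    rw [← Spec.map_preimage l]
    exact this.flip
  let j : Spec R ⟶ pullback h y := pullback.lift (a ≫ hU.fromSpec) b (by
    rw [Category.assoc, ← hV.SpecMap_appLE_fromSpec h hU hUV, h1.w_assoc, hl])
  have h2 : IsPullback a b (hU.fromSpec ≫ h) y :=
    ⟨⟨by rw [← hV.SpecMap_appLE_fromSpec h hU hUV, h1.w_assoc, hl]⟩, ⟨PullbackCone.IsLimit.mk _
      (fun c => h1.lift c.fst c.snd (by
        rw [← cancel_mono hV.fromSpec, Category.assoc, Category.assoc, hl, hV.SpecMap_appLE_fromSpec h hU hUV]
        exact c.condition))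
      (fun c => h1.lift_fst _ _ _) (fun c => h1.lift_snd _ _ _)
      (fun c k h2 h3 => h1.hom_ext (by rw [h2, h1.lift_fst]) (by rw [h3, h1.lift_snd]))⟩⟩
  have hj : IsPullback a j hU.fromSpec (pullback.fst h y) := by
    refine IsPullback.of_bot ?_ (pullback.lift_fst _ _ _).symm (IsPullback.of_hasPullback h y)
    rw [show j ≫ pullback.snd h y = b from pullback.lift_snd _ _ _]
    exact h2
  haveI : IsOpenImmersion j := MorphismProperty.of_isPullback (P := @IsOpenImmersion) hj inferInstance
  obtain ⟨u, hu⟩ : pullback.fst h y z ∈ Set.range hU.fromSpec := by rw [hU.range_fromSpec]; exact hxU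
  obtain ⟨w, -, hw⟩ := Scheme.Pullback.exists_preimage_pullback (f := hU.fromSpec) (g := pullback.fst h y) u z hu
  obtain ⟨r, hr⟩ : z ∈ Set.range j :=
    ⟨hj.isoPullback.inv w, by rw [← Scheme.Hom.comp_apply, hj.isoPullback_inv_snd, hw]⟩
  let q : PrimeSpectrum R := r
  haveI : IsDomain (Localization.AtPrime q.asIdeal) := (hnor q.asIdeal).1
  haveI : IsDomain ((Spec R).presheaf.stalk r) :=
    MulEquiv.isDomain (Localization.AtPrime q.asIdeal) (StructureSheaf.stalkIso R q).symm.toRingEquiv.toMulEquiv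
  rw [← hr]
  exact MulEquiv.isDomain ((Spec R).presheaf.stalk r) (asIso (j.stalkMap r)).commRingCatIsoToRingEquiv.toMulEquiv

theorem isDomain_stalk_of_openImmersion {V : Scheme.{u}} (j : V ⟶ Y) [IsOpenImmersion j] (K : Type u) [Field K]
    (y : Spec (CommRingCat.of K) ⟶ S) {Z : Scheme.{u}} {fst : Z ⟶ V} {snd : Z ⟶ Spec (CommRingCat.of K)}
    (hsq : IsPullback fst snd (j ≫ h) y) (z : Z) : IsDomain (Z.presheaf.stalk z) := by
  let n : Z ⟶ pullback h y := pullback.lift (fst ≫ j) snd (by rw [Category.assoc]; exact hsq.w)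
  have hn' : IsPullback fst n j (pullback.fst h y) := by
    refine IsPullback.of_bot ?_ (pullback.lift_fst _ _ _).symm (IsPullback.of_hasPullback h y)
    rw [show n ≫ pullback.snd h y = snd from pullback.lift_snd _ _ _]
    exact hsq
  haveI : IsOpenImmersion n := MorphismProperty.of_isPullback (P := @IsOpenImmersion) hn' inferInstance
  haveI := isDomain_stalk_pullback h hn K y (n z)
  exact MulEquiv.isDomain ((pullback h y).presheaf.stalk (n z))
    (asIso (n.stalkMap z)).symm.commRingCatIsoToRingEquiv.toMulEquiv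

theorem geometricallyReduced_of_isNormalMor : GeometricallyReduced h := by
  refine ⟨fun K _ y Z fst snd hsq => ?_⟩
  haveI := fun z => isDomain_stalk_of_openImmersion h hn (𝟙 Y) K y
    (fst := fst) (snd := snd) (by rwa [Category.id_comp]) z
  exact isReduced_of_isReduced_stalk Z

end Groth.Agent.SmoothSecLib
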