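import Groth.Agent.GeomIrred.Scheme
import Groth.Agent.GeomIrred.FinSep

/-!
# Images of clopen subsets under extensions of the base field
-/

set_option autoImplicit false
set_option backward.isDefEq.respectTransparency false
set_option linter.style.haveILetI false

universe u

open CategoryTheory CategoryTheory.Limits AlgebraicGeometry Topology

namespace Groth.Agent.SmoothSecLib

/-- A surjective open map with preconnected fibres sends clopens to clopens. -/
theorem isClopen_image_of_preconnected_fibres {A B : Type*} [TopologicalSpace A] [TopologicalSpace B]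
    {q : A → B} (hqo : IsOpenMap q) (hqs : Function.Surjective q)
    (hf : ∀ b, _root_.IsPreconnected (q ⁻¹' {b})) {D : Set A} (hD : IsClopen D) : IsClopen (q '' D) := by
  refine ⟨?_, hqo _ hD.2⟩
  rw [← isOpen_compl_iff]
  have : (q '' D)ᶜ = q '' Dᶜ := by
    ext b
    constructor
    · intro hb
      obtain ⟨a, rfl⟩ := hqs b
      exact ⟨a, fun ha => hb ⟨a, ha, rfl⟩, rfl⟩
    · rintro ⟨a, ha, rfl⟩ ⟨a', ha', he⟩
      exact ha ((hf (q a)).subset_isClopen hD ⟨a', he, ha'⟩ rfl)
  rw [this]
  exact hqo _ hD.compl.2

/-- The image of a clopen subset of a base change to an arbitrary field extension is clopen. -/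
theorem isClopen_image_of_isPullback {k K : Type u} [Field k] [Field K] {X P : Scheme.{u}}
    {p : X ⟶ Spec (CommRingCat.of k)} {p' : P ⟶ Spec (CommRingCat.of K)} {m : P ⟶ X}
    {w : Spec (CommRingCat.of K) ⟶ Spec (CommRingCat.of k)} (H : IsPullback m p' p w)
    {D : Set P} (hD : IsClopen D) : IsClopen (m '' D) := by
  letI : Algebra k K := (Spec.preimage w).hom.toAlgebra
  have hw : w = Spec.map (CommRingCat.ofHom (algebraMap k K)) := (Spec.map_preimage w).symm
  let Kb := AlgebraicClosure K
  let kb := AlgebraicClosure k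
  letI : Algebra kb Kb := (IsAlgClosed.lift : kb →ₐ[k] Kb).toRingHom.toAlgebra
  haveI : IsScalarTower k kb Kb := IsScalarTower.of_algebraMap_eq fun x =>
    ((IsAlgClosed.lift : kb →ₐ[k] Kb).commutes x).symm
  let A := Spec.map (CommRingCat.ofHom (algebraMap k kb))
  let B := Spec.map (CommRingCat.ofHom (algebraMap K Kb))
  let C := Spec.map (CommRingCat.ofHom (algebraMap kb Kb))
  have hBC : B ≫ w = C ≫ A := by
    rw [hw, ← Spec.map_comp, ← Spec.map_comp, ← CommRingCat.ofHom_comp, ← CommRingCat.ofHom_comp,
      ← IsScalarTower.algebraMap_eq, ← IsScalarTower.algebraMap_eq]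
  let r := pullback.fst p A
  let q := pullback.fst (pullback.snd p A) C
  let sQ := pullback.snd (pullback.snd p A) C
  have hQ : IsPullback (q ≫ r) sQ p (C ≫ A) :=
    (IsPullback.of_hasPullback _ _).paste_horiz (IsPullback.of_hasPullback p A)
  let u : pullback (pullback.snd p A) C ⟶ P := H.lift (q ≫ r) (sQ ≫ B) (by
    rw [hQ.w, Category.assoc, hBC])
  have hu : IsPullback u sQ p' B := by
    refine IsPullback.of_right ?_ (H.lift_snd _ _ _) H
    rw [H.lift_fst, hBC]
    exact hQ
  haveI : Surjective u := MorphismProperty.of_isPullback hu.flip (GeomIrred.surjective_specMap_field K Kb)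
  haveI : Surjective q := MorphismProperty.pullback_fst (P := @Surjective) _ _ (GeomIrred.surjective_specMap_field kb Kb)
  haveI : UniversallyOpen C := inferInstance
  haveI : UniversallyOpen A := inferInstance
  haveI : GeometricallyIrreducible C := GeomIrred.geometricallyIrreducible_field (k := kb) Kb
  haveI : GeometricallyConnected C := GeomIrred.geometricallyConnected_of_geometricallyIrreducible C
  haveI : GeometricallyConnected q := MorphismProperty.pullback_fst (P := @GeometricallyConnected) _ _ ‹_›
  have h1 : IsClopen (q '' (u ⁻¹' D)) :=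
    isClopen_image_of_preconnected_fibres q.isOpenMap q.surjective
      (fun b => (q.isConnected_preimage_singleton b).isPreconnected) (hD.preimage u.continuous)
  haveI : IsIntegralHom A := by
    rw [IsIntegralHom.SpecMap_iff]
    exact fun y => Algebra.IsIntegral.isIntegral y
  haveI : IsIntegralHom r := MorphismProperty.pullback_fst (P := @IsIntegralHom) _ _ ‹_›
  have h2 : IsClopen (r '' (q '' (u ⁻¹' D))) := ⟨r.isClosedMap _ h1.1, r.isOpenMap _ h1.2⟩
  convert h2 using 1
  have key : ∀ z, r (q z) = m (u z) := fun z => by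
    rw [← Scheme.Hom.comp_apply, ← Scheme.Hom.comp_apply, H.lift_fst]
  ext y
  constructor
  · rintro ⟨d, hd, rfl⟩
    obtain ⟨z, rfl⟩ := u.surjective d
    exact ⟨q z, ⟨z, hd, rfl⟩, key z⟩
  · rintro ⟨_, ⟨z, hz, rfl⟩, rfl⟩
    exact ⟨u z, hz, (key z).symm⟩

end Groth.Agent.SmoothSecLib
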